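import Groth.Agent.QCohLib.Push
import Groth.Agent.QCohLib.Coherent
import Groth.Agent.FLILib.Stalks
import Groth.Agent.FibDimLib.Semicont
import Groth.Agent.HLVTLib.ConnDim
import Groth.Agent.CurvLib.SupportVanish
import Groth.Agent.OrbitLib.Smooth

/-!
# Torsion of a module on a reduced scheme is carried by small coherent subsheaves
-/

set_option autoImplicit false
set_option linter.style.haveILetI false
set_option linter.unusedSectionVars false
set_option backward.isDefEq.respectTransparency false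
set_option backward.isDefEq.respectTransparency.types false

universe u

open CategoryTheory CategoryTheory.Limits AlgebraicGeometry TopologicalSpace Opposite
open ProjFormLib (ger res ger_res ger_map ger_smul exists_ger)
open CohCmpLib (stk ger_zero)

noncomputable section

namespace OmegaTF

variable {X : Scheme.{u}}

/-- Restriction of a module to an open set, as a morphism to the direct image. -/
def resUnit (ω : X.Modules) (W : X.Opens) : ω ⟶ (Scheme.Modules.pushforward W.ι).obj (ω.restrict W.ι) :=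
  (Scheme.Modules.restrictAdjunction W.ι).unit.app ω

theorem resUnit_app (ω : X.Modules) (W U : X.Opens) (s : Γ(ω, U)) :
    (resUnit ω W).app U s = res ω (W.ι.image_preimage_le U) s := by
  rw [resUnit, Scheme.Modules.restrictAdjunction_unit_app_app]
  rfl

/-- The subsheaf of sections vanishing on an open set has no stalks there. -/
theorem subsingleton_stalk_kernel (ω : X.Modules) (W : X.Opens) {y : X} (hy : y ∈ W) :
    Subsingleton (stk (kernel (resUnit ω W)) y) := by
  refine ⟨fun a b => FLI.sMap_injective (kernel.ι (resUnit ω W)) y ?_⟩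
  suffices h : ∀ c, FLI.sMap (kernel.ι (resUnit ω W)) y c = 0 by rw [h a, h b]
  intro c
  have h0 : FLI.sMap (resUnit ω W) y (FLI.sMap (kernel.ι (resUnit ω W)) y c) = 0 := by
    rw [← FLI.sMap_comp, kernel.condition, FLI.sMap_zero]
  generalize FLI.sMap (kernel.ι (resUnit ω W)) y c = b at h0
  obtain ⟨U, hyU, s, rfl⟩ := exists_ger ω y b
  have h1 : ger _ y hyU ((resUnit ω W).app U s) = ger _ y hyU 0 :=
    (ger_map (resUnit ω W) y hyU s).symm.trans (h0.trans (ger_zero _ y hyU).symm)
  obtain ⟨V, hyV, i₁, i₂, h2⟩ :=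
    ((Scheme.Modules.pushforward W.ι).obj (ω.restrict W.ι)).presheaf.germ_eq y hyU hyU _ _ h1
  rw [map_zero] at h2
  have hle : W.ι ''ᵁ (W.ι ⁻¹ᵁ V) ≤ U := (W.ι.image_preimage_le V).trans i₁.le
  have h3 : res ω hle s = 0 := by
    refine Eq.trans ?_ h2
    rw [resUnit_app]
    exact (ConcreteCategory.congr_hom (ω.presheaf.map_comp (homOfLE (W.ι.image_preimage_le U)).op
      (homOfLE (Scheme.Hom.image_mono _ (Scheme.Hom.preimage_mono _ i₁.le))).op) s)
  have hyim : y ∈ W.ι ''ᵁ (W.ι ⁻¹ᵁ V) := ⟨⟨y, hy⟩, hyV, rfl⟩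
  rw [← ger_res ω hle y hyim s, h3]
  exact ger_zero _ y hyim

/-- A germ vanishing on the open set comes from the subsheaf. -/
theorem exists_kernel_germ (ω : X.Modules) (W U : X.Opens) (s : Γ(ω, U))
    (hs : res ω (inf_le_left : U ⊓ W ≤ U) s = 0) {x : X} (hx : x ∈ U) :
    ∃ a, FLI.sMap (kernel.ι (resUnit ω W)) x a = ger ω x hx s := by
  refine FLI.exists_of_exact _ (resUnit ω W) (kernel.condition _)
    (ShortComplex.exact_of_f_is_kernel _ (kernelIsKernel _)) x ?_
  refine (ger_map (resUnit ω W) x hx s).trans ?_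
  have h0 : (resUnit ω W).app U s = 0 := by
    rw [resUnit_app]
    have hle : W.ι ''ᵁ (W.ι ⁻¹ᵁ U) ≤ U ⊓ W := by
      rintro _ ⟨z, hz, rfl⟩
      exact ⟨hz, z.2⟩
    refine (ConcreteCategory.congr_hom (ω.presheaf.map_comp (homOfLE (inf_le_left : U ⊓ W ≤ U)).op
      (homOfLE hle).op) s).trans ?_
    show ω.presheaf.map (homOfLE hle).op (res ω (inf_le_left : U ⊓ W ≤ U) s) = 0
    rw [hs]
    exact map_zero _
  rw [h0]
  exact ger_zero _ x hx

theorem isCoh_kernel_resUnit [IsLocallyNoetherian X] (ω : X.Modules) (hω : Coh.IsCoh ω) (W : X.Opens) :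
    Coh.IsCoh (kernel (resUnit ω W)) := by
  haveI : Coh.IsQCoh ω := hω.1
  haveI : Coh.IsQCoh (ω.restrict W.ι) := inferInstance
  exact QCohLib.isCoh_kernel _ hω (QCohLib.isQCoh_pushforward W.ι (ω.restrict W.ι))

/-- A point is maximal for generisation when its closure is a component. -/
theorem generic_of_component {η : X} (hη : closure ({η} : Set X) ∈ irreducibleComponents X) (z : X) (hz : z ⤳ η) :
    z = η := by
  have h1 : closure ({η} : Set X) ⊆ closure {z} :=
    closure_minimal (Set.singleton_subset_iff.2 (specializes_iff_mem_closure.1 hz)) isClosed_closure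
  have h2 : closure ({z} : Set X) ⊆ closure {η} := hη.2 isIrreducible_singleton.closure h1
  exact (hz.antisymm (specializes_iff_mem_closure.2 (h2 (subset_closure rfl)))).eq

theorem isField_stalk_of_component [IsReduced X] {η : X}
    (hη : closure ({η} : Set X) ∈ irreducibleComponents X) : IsField (X.presheaf.stalk η) :=
  OrbitLib.isField_stalk_of_max η (generic_of_component hη)

/-- A non-zero-divisor at a point does not vanish at the generic points above it. -/
theorem mem_basicOpen_generic [IsReduced X] {x η : X} {U : X.Opens} (hx : x ∈ U) (hηU : η ∈ U)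
    (hsp : η ⤳ x) (hη : IsField (X.presheaf.stalk η)) (f : Γ(X, U))
    (hf : X.presheaf.germ U x hx f ∈ nonZeroDivisors (X.presheaf.stalk x)) : η ∈ X.basicOpen f := by
  by_contra hn
  letI := hη.toField
  obtain ⟨V, hV, hxV, hVU'⟩ := exists_isAffineOpen_mem_and_subset (x := x) (U := U) hx
  have hVU : V ≤ U := hVU'
  have hηV : η ∈ V := hsp.mem_open V.2 hxV
  let f' : Γ(X, V) := X.presheaf.map (homOfLE hVU).op f
  have hf0 : X.presheaf.germ V η hηV f' = 0 := by
    by_contra h0
    exact hn ((Scheme.mem_basicOpen X f η hηU).2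
      (by rw [← TopCat.Presheaf.germ_res_apply X.presheaf (homOfLE hVU) η hηV f]; exact IsUnit.mk0 _ h0))
  obtain ⟨N, hηN, i₁, i₂, hN⟩ := X.presheaf.germ_eq η hηV hηV f' 0 (hf0.trans (map_zero _).symm)
  rw [map_zero] at hN
  obtain ⟨c, hcN, hηc⟩ := hV.exists_basicOpen_le ⟨η, hηN⟩ hηV
  have hcf : c * f' = 0 := by
    rw [← basicOpen_eq_bot_iff, eq_bot_iff]
    intro y hy
    rw [Scheme.basicOpen_mul] at hy
    have hyN : y ∈ N := hcN hy.1
    have hu := (Scheme.mem_basicOpen X f' y (i₁.le hyN)).1 hy.2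
    rw [← TopCat.Presheaf.germ_res_apply X.presheaf i₁ y hyN f', hN, map_zero] at hu
    exact absurd hu not_isUnit_zero
  have hc0 : X.presheaf.germ V x hxV c = 0 := by
    refine (mem_nonZeroDivisors_iff.1 hf).2 _ ?_
    rw [← TopCat.Presheaf.germ_res_apply X.presheaf (homOfLE hVU) x hxV f, ← map_mul, hcf, map_zero]
  obtain ⟨O, hxO, j₁, j₂, hO⟩ := X.presheaf.germ_eq x hxV hxV c 0 (hc0.trans (map_zero _).symm)
  rw [map_zero] at hO
  have hηO : η ∈ O := hsp.mem_open O.2 hxO
  have hu := (Scheme.mem_basicOpen X c η hηV).1 hηc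
  rw [← TopCat.Presheaf.germ_res_apply X.presheaf j₁ η hηO c, hO, map_zero] at hu
  exact not_isUnit_zero hu

/-- A torsion germ is a germ of a section vanishing off a closed set without generic points. -/
theorem exists_small_support [IsReduced X] [NoetherianSpace X] (ω : X.Modules) {x : X} {a : X.presheaf.stalk x}
    (ha : a ∈ nonZeroDivisors (X.presheaf.stalk x)) {t : stk ω x} (hat : a • t = 0) :
    ∃ T : Set X, IsClosed T ∧ (∀ η : X, closure ({η} : Set X) ∈ irreducibleComponents X → η ∉ T) ∧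
      ∃ (W U : X.Opens) (hx : x ∈ U) (s : Γ(ω, U)), (W : Set X) = Tᶜ ∧ ger ω x hx s = t ∧
        res ω (inf_le_left : U ⊓ W ≤ U) s = 0 := by
  obtain ⟨U₁, hx₁, f₁, rfl⟩ := X.presheaf.exists_germ_eq (x := x) a
  obtain ⟨U₂, hx₂, s₂, rfl⟩ := exists_ger ω x t
  let U₀ := U₁ ⊓ U₂
  let f₀ : Γ(X, U₀) := X.presheaf.map (homOfLE inf_le_left).op f₁
  let s₀ : Γ(ω, U₀) := res ω (inf_le_right : U₀ ≤ U₂) s₂
  have hx₀ : x ∈ U₀ := ⟨hx₁, hx₂⟩
  have h0 : ger ω x hx₀ (f₀ • s₀) = ger ω x hx₀ 0 := by
    rw [ger_smul, ger_res, ger_zero, TopCat.Presheaf.germ_res_apply]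
    exact hat
  obtain ⟨U₃, hx₃, i₁, i₂, h3⟩ := ω.presheaf.germ_eq x hx₀ hx₀ _ _ h0
  rw [map_zero] at h3
  let E : Set X := ⋃₀ {C ∈ irreducibleComponents X | x ∉ C}
  have hclosed : ∀ p : Set X → Prop, IsClosed (⋃₀ {C ∈ irreducibleComponents X | p C}) := fun p => by
    rw [Set.sUnion_eq_biUnion]
    exact Set.Finite.isClosed_biUnion (NoetherianSpace.finite_irreducibleComponents.subset fun C hC => hC.1)
      fun C hC => isClosed_of_mem_irreducibleComponents C hC.1
  have hE : IsClosed E := hclosed fun C => x ∉ C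
  let U : X.Opens := U₃ ⊓ ⟨Eᶜ, hE.isOpen_compl⟩
  have hxE : x ∉ E := fun ⟨C, hC, hxC⟩ => hC.2 hxC
  have hxU : x ∈ U := ⟨hx₃, hxE⟩
  have hU₀ : U ≤ U₀ := inf_le_left.trans i₁.le
  let f : Γ(X, U) := X.presheaf.map (homOfLE hU₀).op f₀
  let s : Γ(ω, U) := res ω hU₀ s₀
  have hfs : f • s = 0 := by
    refine Eq.trans (Scheme.Modules.map_smul ω (homOfLE hU₀) f₀ s₀).symm ?_
    refine (ConcreteCategory.congr_hom (ω.presheaf.map_comp i₁.op (homOfLE (inf_le_left : U ≤ U₃)).op) _).trans ?_
    show ω.presheaf.map _ (ω.presheaf.map i₁.op (f₀ • s₀)) = 0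
    rw [h3]
    exact map_zero _
  let S : Set X := (U : Set X) \ (X.basicOpen f : Set X)
  refine ⟨closure S, isClosed_closure, fun η hη hηT => ?_, ⟨(closure S)ᶜ, isClosed_closure.isOpen_compl⟩,
    U, hxU, s, rfl, (ger_res ω hU₀ x hxU s₀).trans (ger_res ω inf_le_right x hx₀ s₂), ?_⟩
  · let C := closure ({η} : Set X)
    let O : Set X := (⋃₀ {D ∈ irreducibleComponents X | D ≠ C})ᶜ
    have hO : IsOpen O := (hclosed fun D => D ≠ C).isOpen_compl
    have hηO : η ∈ O := fun ⟨D, hD, hηD⟩ => hD.2 (le_antisymm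
      (hη.2 hD.1.1 (closure_minimal (Set.singleton_subset_iff.2 hηD)
        (isClosed_of_mem_irreducibleComponents D hD.1)))
      (closure_minimal (Set.singleton_subset_iff.2 hηD) (isClosed_of_mem_irreducibleComponents D hD.1)))
    obtain ⟨y, hyO, hyS⟩ := mem_closure_iff.1 hηT O hO hηO
    have hyC : y ∈ C := by
      by_contra hn
      exact hyO ⟨irreducibleComponent y, ⟨irreducibleComponent_mem_irreducibleComponents y,
        fun e => hn (e ▸ mem_irreducibleComponent)⟩, mem_irreducibleComponent⟩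
    have hηU : η ∈ U := (specializes_iff_mem_closure.2 hyC).mem_open U.2 hyS.1
    have hsp : η ⤳ x := by
      refine specializes_iff_mem_closure.2 ?_
      by_contra hn
      exact hηU.2 ⟨C, ⟨hη, hn⟩, subset_closure rfl⟩
    have hηf : η ∈ X.basicOpen f := by
      refine mem_basicOpen_generic hxU hηU hsp (isField_stalk_of_component hη) f ?_
      rw [show X.presheaf.germ U x hxU f = X.presheaf.germ U₁ x hx₁ f₁ by
        exact (TopCat.Presheaf.germ_res_apply X.presheaf (homOfLE hU₀) x hxU f₀).trans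
          (TopCat.Presheaf.germ_res_apply X.presheaf _ x hx₀ f₁)]
      exact ha
    obtain ⟨z, hz, hzS⟩ := mem_closure_iff.1 hηT _ (X.basicOpen f).2 hηf
    exact hzS.2 hz
  · have hle : U ⊓ ⟨(closure S)ᶜ, isClosed_closure.isOpen_compl⟩ ≤ X.basicOpen f := fun z hz => by
      by_contra hn
      exact hz.2 (subset_closure ⟨hz.1, hn⟩)
    have hu : IsUnit (X.presheaf.map (homOfLE (inf_le_left :
        U ⊓ ⟨(closure S)ᶜ, isClosed_closure.isOpen_compl⟩ ≤ U)).op f) := by
      have h1 := (RingedSpace.isUnit_res_basicOpen X.toRingedSpace f).map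
        (X.presheaf.map (homOfLE hle).op).hom
      exact (ConcreteCategory.congr_hom (X.presheaf.map_comp (homOfLE (X.basicOpen_le f)).op (homOfLE hle).op) f).symm ▸ h1
    refine hu.smul_eq_zero.1 ?_
    refine (Scheme.Modules.map_smul ω (homOfLE inf_le_left) f s).symm.trans ?_
    rw [hfs]
    exact map_zero _

/-- A closed set with small point closures is small. -/
theorem dim_lt_of_points {S : Set X} (hS : IsClosed S) {r : ℕ}
    (h : ∀ y ∈ S, topologicalKrullDim (closure ({y} : Set X)) < (r : ℕ)) :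
    topologicalKrullDim S < (r : ℕ) := by
  rcases S.eq_empty_or_nonempty with rfl | ⟨y, hy⟩
  · haveI : IsEmpty (IrreducibleCloseds (∅ : Set X)) := ⟨fun c => by
      obtain ⟨x, -⟩ := c.isIrreducible.nonempty
      exact x.2⟩
    exact (Order.krullDim_eq_bot).trans_lt (WithBot.bot_lt_coe _)
  cases r with
  | zero => exact absurd (h y hy) (not_lt.mpr (HLVTLib.Conn.dim_nonneg ⟨y, subset_closure rfl⟩))
  | succ m =>
    haveI : QuasiSober S := hS.isClosedEmbedding_subtypeVal.quasiSober
    refine lt_of_le_of_lt (FibDimLib.topologicalKrullDim_le_of_generic (c := ((m : ℕ) : WithBot ℕ∞))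
      fun z _ => ?_) (by exact_mod_cast Nat.lt_succ_self m)
    refine le_trans ?_ (ENat.WithBot.lt_add_one_iff.mp (h z.1 z.2))
    exact ((Topology.IsInducing.subtypeVal.comp Topology.IsInducing.subtypeVal).codRestrict
      (s := closure ({z.1} : Set X)) fun w => (closure_subtype.mp w.2 :) |> fun hw => by
        simpa using hw).topologicalKrullDim_le

/-- A closed set without generic points has smaller dimension. -/
theorem dim_lt_of_no_generic {r : ℕ}
    (heq : ∀ Z : Set ↥X, Z ∈ irreducibleComponents ↥X → topologicalKrullDim ↥Z = (r : WithBot ℕ∞))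
    {T : Set X} (hT : IsClosed T) (hgen : ∀ η : X, closure ({η} : Set X) ∈ irreducibleComponents X → η ∉ T) :
    topologicalKrullDim T < (r : ℕ) := by
  refine dim_lt_of_points hT fun y hy => ?_
  obtain ⟨C, hC, hyC⟩ : ∃ C ∈ irreducibleComponents X, y ∈ C :=
    ⟨_, irreducibleComponent_mem_irreducibleComponents y, mem_irreducibleComponent⟩
  have hCc := isClosed_of_mem_irreducibleComponents C hC
  have hle : closure ({y} : Set X) ⊆ C := closure_minimal (Set.singleton_subset_iff.2 hyC) hCc
  have hne : closure ({y} : Set X) ≠ C := fun e => hgen y (e ▸ hC) hy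
  refine (HLVTLib.Conn.dim_lt hC.1 isClosed_closure hle hne ?_).trans_le (heq C hC).le
  rw [heq C hC]
  exact WithBot.coe_lt_coe.2 (ENat.natCast_lt_top r)

/-- Morphisms from modules with small support being trivial forces torsion freeness. -/
theorem torsion_eq_bot [IsReduced X] [IsLocallyNoetherian X] [NoetherianSpace X] (ω : X.Modules)
    (hω : Coh.IsCoh ω)
    (hhom : ∀ (K : X.Modules) (T : Set X), Coh.IsCoh K → IsClosed T → CohB1.support K ⊆ T →
      (∀ η : X, closure ({η} : Set X) ∈ irreducibleComponents X → η ∉ T) → ∀ φ : K ⟶ ω, φ = 0)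
    (x : X) : Submodule.torsion (X.presheaf.stalk x) (ω.presheaf.stalk x) = ⊥ := by
  rw [eq_bot_iff]
  intro t ht
  obtain ⟨⟨a, ha⟩, hat⟩ := (Submodule.mem_torsion_iff t).1 ht
  obtain ⟨T, hT, hgen, W, U, hx, s, hW, hs, hres⟩ := exists_small_support ω ha (t := t) hat
  have hsupp : CohB1.support (kernel (resUnit ω W)) ⊆ T := fun y hy => by
    by_contra hn
    exact hy (subsingleton_stalk_kernel ω W (show y ∈ (W : Set X) by rw [hW]; exact hn))
  have h0 : kernel.ι (resUnit ω W) = 0 := hhom _ T (isCoh_kernel_resUnit ω hω W) hT hsupp hgen _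
  obtain ⟨b, hb⟩ := exists_kernel_germ ω W U s hres hx
  rw [h0, FLI.sMap_zero] at hb
  exact (hb.trans hs).symm

end OmegaTF

end
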